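import Mathlib.CategoryTheory.Triangulated.Pretriangulated
import Mathlib.CategoryTheory.Triangulated.TriangleShift
import Mathlib.Algebra.Homology.HomologicalComplex
import Mathlib

/-!
Vanishing of morphisms along Postnikov systems.
-/

set_option autoImplicit false

noncomputable section

universe v u

open CategoryTheory Limits CategoryTheory.Pretriangulated

namespace Groth.Agent.Postnikov

variable {D : Type u} [Category.{v} D] [Preadditive D] [HasZeroObject D] [HasShift D ℤ]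
    [∀ n : ℤ, (shiftFunctor D n).Additive] [Pretriangulated D]

/-- No nonzero maps from `A` to `B⟦m⟧`. -/
def V (A B : D) (m : ℤ) : Prop := ∀ ψ : A ⟶ B⟦m⟧, ψ = 0

lemma V.shift {A B : D} {m : ℤ} (h : V A B m) (p q : ℤ) (e : m + p = q) (ψ : A⟦p⟧ ⟶ B⟦q⟧) :
    ψ = 0 := by
  obtain ⟨g, hg⟩ := (shiftFunctor D p).map_surjective (ψ ≫ (shiftFunctorAdd' D m p q e).hom.app B)
  rw [h g, Functor.map_zero] at hg
  exact (cancel_mono ((shiftFunctorAdd' D m p q e).hom.app B)).1 (hg.symm.trans zero_comp.symm)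

lemma V.of_shift {A B : D} {m : ℤ} (p q : ℤ) (e : m + p = q)
    (h : ∀ ψ : A⟦p⟧ ⟶ B⟦q⟧, ψ = 0) : V A B m := fun ψ => (shiftFunctor D p).map_injective (by
  rw [Functor.map_zero, ← cancel_mono ((shiftFunctorAdd' D m p q e).inv.app B), zero_comp]
  exact h _)

/-- From maps `A⟦p⟧ ⟶ B`. -/
lemma V.of_left {A B : D} {m : ℤ} (p : ℤ) (e : m + p = 0) (h : ∀ ψ : A⟦p⟧ ⟶ B, ψ = 0) : V A B m :=
  V.of_shift p 0 e fun ψ => by
    rw [← cancel_mono ((shiftFunctorZero D ℤ).hom.app B), zero_comp]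
    exact h _

lemma V.left {A B : D} {m : ℤ} (h : V A B m) (p : ℤ) (e : m + p = 0) (ψ : A⟦p⟧ ⟶ B) : ψ = 0 := by
  rw [← cancel_mono ((shiftFunctorZero D ℤ).inv.app B), zero_comp]
  exact h.shift p 0 e (ψ ≫ (shiftFunctorZero D ℤ).inv.app B)

lemma V.zero {A B : D} (h : V A B 0) (ψ : A ⟶ B) : ψ = 0 := by
  rw [← cancel_mono ((shiftFunctorZero D ℤ).inv.app B), zero_comp]
  exact h _

lemma V.iso {A B : D} {m : ℤ} (h : V A B m) {B' : D} (e : B' ≅ B) : V A B' m := fun ψ => by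
  rw [← cancel_mono (e.hom⟦m⟧'), zero_comp]
  exact h _

lemma V.shift₁ {A B : D} {m m' : ℤ} (h : V A B m') (e : m + 1 = m') (ψ : A ⟶ (B⟦m⟧)⟦(1 : ℤ)⟧) : ψ = 0 := by
  rw [← cancel_mono ((shiftFunctorAdd' D m 1 m' e).inv.app B), zero_comp]
  exact h _

/-- Maps into the first term of a triangle. -/
lemma V.obj₁ {A : D} {T : Triangle D} (hT : T ∈ distTriang D) {m m' : ℤ} (e : m' + 1 = m)
    (h₂ : V A T.obj₂ m) (h₃ : V A T.obj₃ m') : V A T.obj₁ m := fun ψ => by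
  have hTm := Triangle.shift_distinguished _ hT m
  obtain ⟨η, hη⟩ := Triangle.coyoneda_exact₂ _ (inv_rot_of_distTriang _ hTm)
    (show A ⟶ ((shiftFunctor (Triangle D) m).obj T).obj₁ from ψ) (h₂ _)
  have hη0 : η = 0 := by
    let e' : ((T.obj₃⟦m⟧)⟦(-1 : ℤ)⟧ : D) ≅ T.obj₃⟦m'⟧ :=
      ((shiftFunctorAdd' D m (-1) m' (by omega)).app T.obj₃).symm
    exact (cancel_mono e'.hom).1 ((h₃ _).trans zero_comp.symm)
  change ψ = η ≫ _ at hη
  rw [hη, hη0, zero_comp]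

/-- Maps out of the first term of a triangle. -/
lemma V.of_obj₂₃ {T : Triangle D} (hT : T ∈ distTriang D) {B : D} {m m' : ℤ} (e : m + 1 = m')
    (h₂ : V T.obj₂ B m) (h₃ : V T.obj₃ B m') : V T.obj₁ B m := fun ψ => by
  have hc : T.mor₃ ≫ ψ⟦(1 : ℤ)⟧' = 0 := h₃.shift₁ e _
  obtain ⟨ξ, hξ⟩ := Triangle.yoneda_exact₃ _ (rot_of_distTriang _ hT) (ψ⟦(1 : ℤ)⟧') hc
  change (T.obj₂)⟦(1 : ℤ)⟧ ⟶ _ at ξ
  change ψ⟦(1 : ℤ)⟧' = (-T.mor₁⟦(1 : ℤ)⟧') ≫ ξ at hξ
  obtain ⟨ξ', rfl⟩ := (shiftFunctor D (1 : ℤ)).map_surjective ξ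
  apply (shiftFunctor D (1 : ℤ)).map_injective
  rw [hξ, h₂ ξ', Functor.map_zero, comp_zero, Functor.map_zero]

/-- A Postnikov system up to stage `n`. -/
structure IsPost (X : ChainComplex D ℕ) (n : ℕ) (Y : ℕ → D) (a : ∀ k, Y k ⟶ X.X k)
    (b : ∀ k, X.X (k + 1) ⟶ Y k) (c : ∀ k, Y k ⟶ (shiftFunctor D (1 : ℤ)).obj (Y (k + 1))) : Prop where
  iso : IsIso (a 0)
  tri : ∀ k, k < n → Triangle.mk (a (k + 1)) (b k) (c k) ∈ distTriang D

variable {X : ChainComplex D ℕ} {n : ℕ} {Y : ℕ → D} {a : ∀ k, Y k ⟶ X.X k}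
    {b : ∀ k, X.X (k + 1) ⟶ Y k} {c : ∀ k, Y k ⟶ (shiftFunctor D (1 : ℤ)).obj (Y (k + 1))}

lemma IsPost.V_into (hP : IsPost X n Y a b c) (A : D) : ∀ (k : ℕ), k ≤ n → ∀ (m : ℤ),
    (∀ l, l ≤ k → V A (X.X l) (m + l - k)) → V A (Y k) m
  | 0, _, m, h => by
    have := hP.iso
    have h0 : V A (X.X 0) m := by simpa using h 0 le_rfl
    exact h0.iso (asIso (a 0))
  | k + 1, hk, m, h => by
    have h2 : V A (X.X (k + 1)) m := by simpa using h (k + 1) le_rfl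
    refine V.obj₁ (T := Triangle.mk (a (k + 1)) (b k) (c k)) (hP.tri k (by omega)) (m' := m - 1) (by omega) h2 ?_
    refine IsPost.V_into hP A k (by omega) (m - 1) fun l hl => ?_
    have := h l (by omega)
    push_cast at this ⊢
    rwa [show m + (l : ℤ) - (k + 1) = m - 1 + l - k by omega] at this

lemma IsPost.V_from (hP : IsPost X n Y a b c) (B : D) : ∀ (k : ℕ), k ≤ n → ∀ (m : ℤ),
    (∀ l, l ≤ k → V (X.X l) B (m + k - l)) → V (Y k) B m
  | 0, _, m, h => fun ψ => by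
    have := hP.iso
    have h0 : V (X.X 0) B m := by simpa using h 0 le_rfl
    exact (cancel_epi (inv (a 0))).1 ((h0 _).trans comp_zero.symm)
  | k + 1, hk, m, h => by
    have h2 : V (X.X (k + 1)) B m := by simpa using h (k + 1) le_rfl
    refine V.of_obj₂₃ (T := Triangle.mk (a (k + 1)) (b k) (c k)) (hP.tri k (by omega)) (m' := m + 1) rfl h2 ?_
    refine IsPost.V_from hP B k (by omega) (m + 1) fun l hl => ?_
    have := h l (by omega)
    push_cast at this ⊢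
    rwa [show m + ((k : ℤ) + 1) - l = m + 1 + k - l by omega] at this

end Groth.Agent.Postnikov
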